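import Cfsg.Agent.CosetEnum.Fi22.Table

/-! Generated: checks of the orbit labels. -/

set_option autoImplicit false
set_option maxRecDepth 100000
set_option Elab.async false

namespace CfsgLib.CosetEnum.Fi22.Tab

open CfsgLib.CosetEnum

theorem orbitH0 : allFrom (checkOrbit CfsgLib.CosetEnum.Fi22.H.TF 9 wordsH labH rankH oparH ogenH rootH 3510) 0 1029 = true := by
  decide +kernel

theorem orbitH1029 : allFrom (checkOrbit CfsgLib.CosetEnum.Fi22.H.TF 9 wordsH labH rankH oparH ogenH rootH 3510) 1029 1029 = true := by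
  decide +kernel

theorem orbitH2058 : allFrom (checkOrbit CfsgLib.CosetEnum.Fi22.H.TF 9 wordsH labH rankH oparH ogenH rootH 3510) 2058 1029 = true := by
  decide +kernel

theorem orbitH3087 : allFrom (checkOrbit CfsgLib.CosetEnum.Fi22.H.TF 9 wordsH labH rankH oparH ogenH rootH 3510) 3087 423 = true := by
  decide +kernel

theorem orbitH : ∀ i < perm.n, (checkOrbit CfsgLib.CosetEnum.Fi22.H.TF 9 wordsH labH rankH oparH ogenH rootH 3510) i = true :=
  RangeChecked.all (RangeChecked.app 423 3510 (RangeChecked.app 1029 3087 (RangeChecked.app 1029 2058 (RangeChecked.app 1029 1029 RangeChecked.zero orbitH0 rfl) orbitH1029 rfl) orbitH2058 rfl) orbitH3087 rfl)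

theorem orbitL0 : allFrom (checkOrbit CfsgLib.CosetEnum.Fi22.H.TF 9 wordsL labL rankL oparL ogenL rootL 3510) 0 1029 = true := by
  decide +kernel

theorem orbitL1029 : allFrom (checkOrbit CfsgLib.CosetEnum.Fi22.H.TF 9 wordsL labL rankL oparL ogenL rootL 3510) 1029 1029 = true := by
  decide +kernel

theorem orbitL2058 : allFrom (checkOrbit CfsgLib.CosetEnum.Fi22.H.TF 9 wordsL labL rankL oparL ogenL rootL 3510) 2058 1029 = true := by
  decide +kernel

theorem orbitL3087 : allFrom (checkOrbit CfsgLib.CosetEnum.Fi22.H.TF 9 wordsL labL rankL oparL ogenL rootL 3510) 3087 423 = true := by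
  decide +kernel

theorem orbitL : ∀ i < perm.n, (checkOrbit CfsgLib.CosetEnum.Fi22.H.TF 9 wordsL labL rankL oparL ogenL rootL 3510) i = true :=
  RangeChecked.all (RangeChecked.app 423 3510 (RangeChecked.app 1029 3087 (RangeChecked.app 1029 2058 (RangeChecked.app 1029 1029 RangeChecked.zero orbitL0 rfl) orbitL1029 rfl) orbitL2058 rfl) orbitL3087 rfl)

theorem orbitLp0 : allFrom (checkOrbit CfsgLib.CosetEnum.Fi22.H.TF 9 wordsLp labLp rankLp oparLp ogenLp rootLp 3510) 0 1029 = true := by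
  decide +kernel

theorem orbitLp1029 : allFrom (checkOrbit CfsgLib.CosetEnum.Fi22.H.TF 9 wordsLp labLp rankLp oparLp ogenLp rootLp 3510) 1029 1029 = true := by
  decide +kernel

theorem orbitLp2058 : allFrom (checkOrbit CfsgLib.CosetEnum.Fi22.H.TF 9 wordsLp labLp rankLp oparLp ogenLp rootLp 3510) 2058 1029 = true := by
  decide +kernel

theorem orbitLp3087 : allFrom (checkOrbit CfsgLib.CosetEnum.Fi22.H.TF 9 wordsLp labLp rankLp oparLp ogenLp rootLp 3510) 3087 423 = true := by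
  decide +kernel

theorem orbitLp : ∀ i < perm.n, (checkOrbit CfsgLib.CosetEnum.Fi22.H.TF 9 wordsLp labLp rankLp oparLp ogenLp rootLp 3510) i = true :=
  RangeChecked.all (RangeChecked.app 423 3510 (RangeChecked.app 1029 3087 (RangeChecked.app 1029 2058 (RangeChecked.app 1029 1029 RangeChecked.zero orbitLp0 rfl) orbitLp1029 rfl) orbitLp2058 rfl) orbitLp3087 rfl)

theorem orbitLv20 : allFrom (checkOrbit CfsgLib.CosetEnum.Fi22.H.TF 9 wordsLv2 labLv2 rankLv2 oparLv2 ogenLv2 rootLv2 3510) 0 1029 = true := by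
  decide +kernel

theorem orbitLv21029 : allFrom (checkOrbit CfsgLib.CosetEnum.Fi22.H.TF 9 wordsLv2 labLv2 rankLv2 oparLv2 ogenLv2 rootLv2 3510) 1029 1029 = true := by
  decide +kernel

theorem orbitLv22058 : allFrom (checkOrbit CfsgLib.CosetEnum.Fi22.H.TF 9 wordsLv2 labLv2 rankLv2 oparLv2 ogenLv2 rootLv2 3510) 2058 1029 = true := by
  decide +kernel

theorem orbitLv23087 : allFrom (checkOrbit CfsgLib.CosetEnum.Fi22.H.TF 9 wordsLv2 labLv2 rankLv2 oparLv2 ogenLv2 rootLv2 3510) 3087 423 = true := by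
  decide +kernel

theorem orbitLv2 : ∀ i < perm.n, (checkOrbit CfsgLib.CosetEnum.Fi22.H.TF 9 wordsLv2 labLv2 rankLv2 oparLv2 ogenLv2 rootLv2 3510) i = true :=
  RangeChecked.all (RangeChecked.app 423 3510 (RangeChecked.app 1029 3087 (RangeChecked.app 1029 2058 (RangeChecked.app 1029 1029 RangeChecked.zero orbitLv20 rfl) orbitLv21029 rfl) orbitLv22058 rfl) orbitLv23087 rfl)

theorem orbitLv30 : allFrom (checkOrbit CfsgLib.CosetEnum.Fi22.H.TF 9 wordsLv3 labLv3 rankLv3 oparLv3 ogenLv3 rootLv3 3510) 0 1029 = true := by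
  decide +kernel

theorem orbitLv31029 : allFrom (checkOrbit CfsgLib.CosetEnum.Fi22.H.TF 9 wordsLv3 labLv3 rankLv3 oparLv3 ogenLv3 rootLv3 3510) 1029 1029 = true := by
  decide +kernel

theorem orbitLv32058 : allFrom (checkOrbit CfsgLib.CosetEnum.Fi22.H.TF 9 wordsLv3 labLv3 rankLv3 oparLv3 ogenLv3 rootLv3 3510) 2058 1029 = true := by
  decide +kernel

theorem orbitLv33087 : allFrom (checkOrbit CfsgLib.CosetEnum.Fi22.H.TF 9 wordsLv3 labLv3 rankLv3 oparLv3 ogenLv3 rootLv3 3510) 3087 423 = true := by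
  decide +kernel

theorem orbitLv3 : ∀ i < perm.n, (checkOrbit CfsgLib.CosetEnum.Fi22.H.TF 9 wordsLv3 labLv3 rankLv3 oparLv3 ogenLv3 rootLv3 3510) i = true :=
  RangeChecked.all (RangeChecked.app 423 3510 (RangeChecked.app 1029 3087 (RangeChecked.app 1029 2058 (RangeChecked.app 1029 1029 RangeChecked.zero orbitLv30 rfl) orbitLv31029 rfl) orbitLv32058 rfl) orbitLv33087 rfl)

theorem orbitLv4At0 : allFrom (checkOrbit CfsgLib.CosetEnum.Fi22.H.TF 9 wordsLv4 labLv4 rankLv4 oparLv4 ogenLv4 rootLv4 3510) 0 300 = true := by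
  decide +kernel

theorem orbitLv4At300 : allFrom (checkOrbit CfsgLib.CosetEnum.Fi22.H.TF 9 wordsLv4 labLv4 rankLv4 oparLv4 ogenLv4 rootLv4 3510) 300 300 = true := by
  decide +kernel

theorem orbitLv4At600 : allFrom (checkOrbit CfsgLib.CosetEnum.Fi22.H.TF 9 wordsLv4 labLv4 rankLv4 oparLv4 ogenLv4 rootLv4 3510) 600 300 = true := by
  decide +kernel

theorem orbitLv4At900 : allFrom (checkOrbit CfsgLib.CosetEnum.Fi22.H.TF 9 wordsLv4 labLv4 rankLv4 oparLv4 ogenLv4 rootLv4 3510) 900 300 = true := by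
  decide +kernel

theorem orbitLv4At1200 : allFrom (checkOrbit CfsgLib.CosetEnum.Fi22.H.TF 9 wordsLv4 labLv4 rankLv4 oparLv4 ogenLv4 rootLv4 3510) 1200 300 = true := by
  decide +kernel

theorem orbitLv4At1500 : allFrom (checkOrbit CfsgLib.CosetEnum.Fi22.H.TF 9 wordsLv4 labLv4 rankLv4 oparLv4 ogenLv4 rootLv4 3510) 1500 300 = true := by
  decide +kernel

theorem orbitLv4At1800 : allFrom (checkOrbit CfsgLib.CosetEnum.Fi22.H.TF 9 wordsLv4 labLv4 rankLv4 oparLv4 ogenLv4 rootLv4 3510) 1800 300 = true := by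
  decide +kernel

theorem orbitLv4At2100 : allFrom (checkOrbit CfsgLib.CosetEnum.Fi22.H.TF 9 wordsLv4 labLv4 rankLv4 oparLv4 ogenLv4 rootLv4 3510) 2100 300 = true := by
  decide +kernel

theorem orbitLv4At2400 : allFrom (checkOrbit CfsgLib.CosetEnum.Fi22.H.TF 9 wordsLv4 labLv4 rankLv4 oparLv4 ogenLv4 rootLv4 3510) 2400 300 = true := by
  decide +kernel

theorem orbitLv4At2700 : allFrom (checkOrbit CfsgLib.CosetEnum.Fi22.H.TF 9 wordsLv4 labLv4 rankLv4 oparLv4 ogenLv4 rootLv4 3510) 2700 300 = true := by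
  decide +kernel

theorem orbitLv4At3000 : allFrom (checkOrbit CfsgLib.CosetEnum.Fi22.H.TF 9 wordsLv4 labLv4 rankLv4 oparLv4 ogenLv4 rootLv4 3510) 3000 300 = true := by
  decide +kernel

theorem orbitLv4At3300 : allFrom (checkOrbit CfsgLib.CosetEnum.Fi22.H.TF 9 wordsLv4 labLv4 rankLv4 oparLv4 ogenLv4 rootLv4 3510) 3300 210 = true := by
  decide +kernel

theorem orbitLv4 : ∀ i < perm.n, (checkOrbit CfsgLib.CosetEnum.Fi22.H.TF 9 wordsLv4 labLv4 rankLv4 oparLv4 ogenLv4 rootLv4 3510) i = true :=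
  RangeChecked.all (RangeChecked.app 210 3510 (RangeChecked.app 300 3300 (RangeChecked.app 300 3000 (RangeChecked.app 300 2700 (RangeChecked.app 300 2400 (RangeChecked.app 300 2100 (RangeChecked.app 300 1800 (RangeChecked.app 300 1500 (RangeChecked.app 300 1200 (RangeChecked.app 300 900 (RangeChecked.app 300 600 (RangeChecked.app 300 300 RangeChecked.zero orbitLv4At0 rfl) orbitLv4At300 rfl) orbitLv4At600 rfl) orbitLv4At900 rfl) orbitLv4At1200 rfl) orbitLv4At1500 rfl) orbitLv4At1800 rfl) orbitLv4At2100 rfl) orbitLv4At2400 rfl) orbitLv4At2700 rfl) orbitLv4At3000 rfl) orbitLv4At3300 rfl)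

theorem orbitLL20 : allFrom (checkOrbit CfsgLib.CosetEnum.Fi22.H.TF 9 wordsLL2 labLL2 rankLL2 oparLL2 ogenLL2 rootLL2 3510) 0 1029 = true := by
  decide +kernel

theorem orbitLL21029 : allFrom (checkOrbit CfsgLib.CosetEnum.Fi22.H.TF 9 wordsLL2 labLL2 rankLL2 oparLL2 ogenLL2 rootLL2 3510) 1029 1029 = true := by
  decide +kernel

theorem orbitLL22058 : allFrom (checkOrbit CfsgLib.CosetEnum.Fi22.H.TF 9 wordsLL2 labLL2 rankLL2 oparLL2 ogenLL2 rootLL2 3510) 2058 1029 = true := by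
  decide +kernel

theorem orbitLL23087 : allFrom (checkOrbit CfsgLib.CosetEnum.Fi22.H.TF 9 wordsLL2 labLL2 rankLL2 oparLL2 ogenLL2 rootLL2 3510) 3087 423 = true := by
  decide +kernel

theorem orbitLL2 : ∀ i < perm.n, (checkOrbit CfsgLib.CosetEnum.Fi22.H.TF 9 wordsLL2 labLL2 rankLL2 oparLL2 ogenLL2 rootLL2 3510) i = true :=
  RangeChecked.all (RangeChecked.app 423 3510 (RangeChecked.app 1029 3087 (RangeChecked.app 1029 2058 (RangeChecked.app 1029 1029 RangeChecked.zero orbitLL20 rfl) orbitLL21029 rfl) orbitLL22058 rfl) orbitLL23087 rfl)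

theorem orbitLL30 : allFrom (checkOrbit CfsgLib.CosetEnum.Fi22.H.TF 9 wordsLL3 labLL3 rankLL3 oparLL3 ogenLL3 rootLL3 3510) 0 1029 = true := by
  decide +kernel

theorem orbitLL31029 : allFrom (checkOrbit CfsgLib.CosetEnum.Fi22.H.TF 9 wordsLL3 labLL3 rankLL3 oparLL3 ogenLL3 rootLL3 3510) 1029 1029 = true := by
  decide +kernel

theorem orbitLL32058 : allFrom (checkOrbit CfsgLib.CosetEnum.Fi22.H.TF 9 wordsLL3 labLL3 rankLL3 oparLL3 ogenLL3 rootLL3 3510) 2058 1029 = true := by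
  decide +kernel

theorem orbitLL33087 : allFrom (checkOrbit CfsgLib.CosetEnum.Fi22.H.TF 9 wordsLL3 labLL3 rankLL3 oparLL3 ogenLL3 rootLL3 3510) 3087 423 = true := by
  decide +kernel

theorem orbitLL3 : ∀ i < perm.n, (checkOrbit CfsgLib.CosetEnum.Fi22.H.TF 9 wordsLL3 labLL3 rankLL3 oparLL3 ogenLL3 rootLL3 3510) i = true :=
  RangeChecked.all (RangeChecked.app 423 3510 (RangeChecked.app 1029 3087 (RangeChecked.app 1029 2058 (RangeChecked.app 1029 1029 RangeChecked.zero orbitLL30 rfl) orbitLL31029 rfl) orbitLL32058 rfl) orbitLL33087 rfl)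

theorem orbitLL40 : allFrom (checkOrbit CfsgLib.CosetEnum.Fi22.H.TF 9 wordsLL4 labLL4 rankLL4 oparLL4 ogenLL4 rootLL4 3510) 0 1029 = true := by
  decide +kernel

theorem orbitLL41029 : allFrom (checkOrbit CfsgLib.CosetEnum.Fi22.H.TF 9 wordsLL4 labLL4 rankLL4 oparLL4 ogenLL4 rootLL4 3510) 1029 1029 = true := by
  decide +kernel

theorem orbitLL42058 : allFrom (checkOrbit CfsgLib.CosetEnum.Fi22.H.TF 9 wordsLL4 labLL4 rankLL4 oparLL4 ogenLL4 rootLL4 3510) 2058 1029 = true := by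
  decide +kernel

theorem orbitLL43087 : allFrom (checkOrbit CfsgLib.CosetEnum.Fi22.H.TF 9 wordsLL4 labLL4 rankLL4 oparLL4 ogenLL4 rootLL4 3510) 3087 423 = true := by
  decide +kernel

theorem orbitLL4 : ∀ i < perm.n, (checkOrbit CfsgLib.CosetEnum.Fi22.H.TF 9 wordsLL4 labLL4 rankLL4 oparLL4 ogenLL4 rootLL4 3510) i = true :=
  RangeChecked.all (RangeChecked.app 423 3510 (RangeChecked.app 1029 3087 (RangeChecked.app 1029 2058 (RangeChecked.app 1029 1029 RangeChecked.zero orbitLL40 rfl) orbitLL41029 rfl) orbitLL42058 rfl) orbitLL43087 rfl)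

end CfsgLib.CosetEnum.Fi22.Tab
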